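import Groth.Agent.EtMVLib.BigPull

/-!
# Degree zero big-site cohomology over an object is the group of sections
-/

set_option autoImplicit false

universe u

open CategoryTheory CategoryTheory.Limits CategoryTheory.Abelian AlgebraicGeometry Opposite

namespace Groth.Agent.HZero79

variable {K : Precoverage Scheme.{u}} {S : Scheme.{u}} (F : BigSite.Ab K S)

/-- The canonical identification of `T` with the image of the terminal object over `T`. -/
noncomputable def topIso (T : Over S) : T ≅ (Over.map T.hom).obj (Over.mk (𝟙 T.left)) :=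
  Over.isoMk (Iso.refl _)

/-- `H⁰(T, F) = F(T)`. -/
noncomputable def secHU (T : Over S) : BigSite.HU K F 0 T ≃+ F.obj.obj (op T) :=
  (Sheaf.H.equiv₀ _ Over.mkIdTerminal).trans (F.obj.mapIso (topIso T).op).addCommGroupIsoToAddEquiv

theorem equiv₀_apply {X : Scheme.{u}} (G : BigSite.Ab K X) (x : BigSite.H K X G 0) :
    Sheaf.H.equiv₀ G Over.mkIdTerminal x =
      (Ext.addEquiv₀ x).hom.app (op (Over.mk (𝟙 X))) (EtMVLib.bigUnit K X (Over.mk (𝟙 X)) (ULift.up 1)) := by
  rw [Sheaf.H.equiv₀]
  simp only [AddEquiv.trans_apply, Adjunction.homAddEquiv_apply, Adjunction.homEquiv_unit,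
    constantSheafAdj, Adjunction.comp_unit_app]
  generalize Ext.addEquiv₀ x = φ
  simp only [Functor.constCompEvaluationObj, constantPresheafAdj, Functor.comp_map, evaluation_obj_map, sheafificationAdjunction_unit_app]
  simp only [NatIso.ofComponents_hom_app, Iso.refl_hom, Category.id_comp]
  rfl

theorem secHU_apply (T : Over S) (x : BigSite.HU K F 0 T) :
    secHU F T x = F.obj.map (topIso T).hom.op (Sheaf.H.equiv₀ _ Over.mkIdTerminal x) := rfl

theorem secHU_resHU {T T' : Over S} (g : T' ⟶ T) (x : BigSite.HU K F 0 T) :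
    secHU F T' (HRes.resHU K F 0 g x) = F.obj.map g.op (secHU F T x) := by
  obtain ⟨φ, rfl⟩ := (Ext.mk₀_bijective _ _).2 x
  have e : HRes.resHU K F 0 g (Ext.mk₀ φ) = Ext.mk₀ (((HRes.pullConst K g.left _).inv ≫
      (BigSite.pullBig K g.left AddCommGrpCat.{u + 1}).map φ) ≫ (HRes.pullIso K F g).hom) := by
    show Sheaf.H.map (HRes.pullIso K F g).hom 0 (HRes.pull K g.left _ 0 (Ext.mk₀ φ)) = _
    rw [HRes.pull_apply, Ext.mapExactFunctor_mk₀, Ext.mk₀_comp_mk₀, Sheaf.H.map_apply, Ext.mk₀_comp_mk₀]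
  rw [e]
  rw [secHU_apply, secHU_apply]
  have hmk : ∀ {X : Scheme.{u}} (A B : BigSite.Ab K X) (ψ : A ⟶ B), Ext.addEquiv₀ (Ext.mk₀ ψ) = ψ :=
    fun A B ψ => Ext.addEquiv₀.apply_symm_apply ψ
  rw [equiv₀_apply, equiv₀_apply, hmk, hmk]
  set V := Over.mk (𝟙 T'.left) with hV
  let h : (Over.map g.left).obj V ⟶ Over.mk (𝟙 T.left) := Over.mkIdTerminal.from _
  have hu : EtMVLib.bigUnit K T.left ((Over.map g.left).obj V) (ULift.up 1) =
      (EtMVLib.bigZ K T.left).obj.map h.op (EtMVLib.bigUnit K T.left (Over.mk (𝟙 T.left)) (ULift.up 1)) := by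
    rw [← EtMVLib.bigUnit_map K T.left h]
    rfl
  have hp := ConcreteCategory.congr_hom (EtMVLib.bigUnit_pullConst_inv K g.left V) (ULift.up 1)
  simp only [ObjectProperty.FullSubcategory.comp_hom, NatTrans.comp_app, ConcreteCategory.comp_apply] at hp ⊢
  have key : φ.hom.app (op ((Over.map g.left).obj V)) (EtMVLib.bigUnit K T.left ((Over.map g.left).obj V) (ULift.up 1)) =
      ((BigSite.pullBig K T.hom AddCommGrpCat.{u + 1}).obj F).obj.map h.op
        (φ.hom.app (op (Over.mk (𝟙 T.left))) (EtMVLib.bigUnit K T.left (Over.mk (𝟙 T.left)) (ULift.up 1))) := by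
    rw [hu]
    exact NatTrans.naturality_apply φ.hom h.op _
  refine (congrArg (fun z => F.obj.map (topIso T').hom.op ((HRes.pullIso K F g).hom.hom.app (op V)
    (((BigSite.pullBig K g.left AddCommGrpCat.{u + 1}).map φ).hom.app (op V) z))) hp).trans ?_
  refine (congrArg (fun z => F.obj.map (topIso T').hom.op ((HRes.pullIso K F g).hom.hom.app (op V) z)) key).trans ?_
  generalize φ.hom.app (op (Over.mk (𝟙 T.left)))
    (EtMVLib.bigUnit K T.left (Over.mk (𝟙 T.left)) (ULift.up 1)) = z
  let w : (Over.map T'.hom).obj V ⟶ (Over.map T.hom).obj ((Over.map g.left).obj V) := Over.homMk (𝟙 _)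
  have hw : (HRes.pullIso K F g).hom.hom.app (op V) = F.obj.map w.op := by
    simp only [HRes.pullIso, Iso.trans_hom, Iso.app_hom, ObjectProperty.FullSubcategory.comp_hom, NatTrans.comp_app,
      GrothendieckTopology.overMapPullbackComp_hom_app_hom_app]
    refine (F.obj.map_comp _ _).symm.trans (congrArg F.obj.map (Quiver.Hom.unop_inj ?_))
    apply Over.OverMorphism.ext
    simp [w]
  rw [hw]
  show F.obj.map (topIso T').hom.op (F.obj.map w.op (F.obj.map ((Over.map T.hom).map h).op z)) =
    F.obj.map g.op (F.obj.map (topIso T).hom.op z)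
  simp only [← ConcreteCategory.comp_apply, ← F.obj.map_comp, ← op_comp]
  congr 4
  apply Over.OverMorphism.ext
  have h1 : h.left = g.left := by
    have := Over.w h
    simpa [V] using this
  simp [topIso, w]
  exact h1

end Groth.Agent.HZero79
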